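import Cfsg.Agent.Lib.Comp.M23.Perm
import Cfsg.Agent.Lib.Comp.Out

set_option maxRecDepth 100000

namespace Cfsg.Lib.Comp.M23

universe u

noncomputable def on_1 : Net :=
 (Net.cons 12 (nat_lit 0x4a0)
 (Net.cons 6 (nat_lit 0xc014)
 (Net.cons 3 (nat_lit 0x4100)
 (Net.cons 1 (nat_lit 0x241000)
 (Net.cons 1 (nat_lit 0x92492)
 (Net.cons 1 (nat_lit 0x8209)
 (Net.cons 3 (nat_lit 0x47100)
 (Net.cons 6 (nat_lit 0x14029)
 (Net.cons 12 (nat_lit 0x100)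
 Net.nil)))))))))

noncomputable def on_2 : Net :=
 (Net.cons 12 (nat_lit 0xde0)
 (Net.cons 6 (nat_lit 0x28000)
 (Net.cons 3 (nat_lit 0x106184)
 (Net.cons 1 (nat_lit 0x8001)
 (Net.cons 1 (nat_lit 0x492412)
 (Net.cons 1 (nat_lit 0x48208)
 (Net.cons 3 (nat_lit 0x105103)
 (Net.cons 6 (nat_lit 0x3900c)
 (Net.cons 12 (nat_lit 0xbff)
 Net.nil)))))))))

noncomputable def on_3 : Net :=
 (Net.cons 12 (nat_lit 0x588)
 (Net.cons 6 (nat_lit 0x18022)
 (Net.cons 3 (nat_lit 0x84000)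
 (Net.cons 1 (nat_lit 0x209248)
 (Net.cons 1 (nat_lit 0x90412)
 (Net.cons 1 (nat_lit 0x200)
 (Net.cons 3 (nat_lit 0x86045)
 (Net.cons 6 (nat_lit 0x1c004)
 (Net.cons 12 (nat_lit 0x70d)
 Net.nil)))))))))

noncomputable def on_4 : Net :=
 (Net.cons 12 (nat_lit 0x814)
 (Net.cons 6 (nat_lit 0x10)
 (Net.cons 3 (nat_lit 0x104080)
 (Net.cons 1 (nat_lit 0x40)
 (Net.cons 1 (nat_lit 0x490012)
 (Net.cons 1 (nat_lit 0x208009)
 (Net.cons 3 (nat_lit 0xc2000)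
 (Net.cons 6 (nat_lit 0x13000)
 (Net.cons 12 (nat_lit 0xaa8)
 Net.nil)))))))))

noncomputable def on_5 : Net :=
 (Net.cons 12 (nat_lit 0xb52)
 (Net.cons 6 (nat_lit 0x2c016)
 (Net.cons 3 (nat_lit 0x182000)
 (Net.cons 1 (nat_lit 0x208040)
 (Net.cons 1 (nat_lit 0x480082)
 (Net.cons 1 (nat_lit 0x40040)
 (Net.cons 3 (nat_lit 0x1870c4)
 (Net.cons 6 (nat_lit 0x2c010)
 (Net.cons 12 (nat_lit 0xce4)
 Net.nil)))))))))

noncomputable def on_11 : Net :=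
 (Net.cons 12 (nat_lit 0x8e)
 (Net.cons 6 (nat_lit 0x12028)
 (Net.cons 3 (nat_lit 0x182104)
 (Net.cons 1 (nat_lit 0x200)
 (Net.cons 1 (nat_lit 0x402402)
 (Net.cons 1 (nat_lit 0x201000)
 (Net.cons 3 (nat_lit 0x182040)
 (Net.cons 6 (nat_lit 0xa012)
 (Net.cons 12 (nat_lit 0x578)
 Net.nil)))))))))

noncomputable def on_13 : Net :=
 (Net.cons 12 (nat_lit 0x44)
 (Net.cons 6 (nat_lit 0x10030)
 (Net.cons 3 (nat_lit 0x4004)
 (Net.cons 1 (nat_lit 0x48200)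
 (Net.cons 1 (nat_lit 0x90492)
 (Net.cons 1 (nat_lit 0x8)
 (Net.cons 3 (nat_lit 0x80086)
 (Net.cons 6 (nat_lit 0x6030)
 (Net.cons 12 (nat_lit 0x3ea)
 Net.nil)))))))))

noncomputable def on_15 : Net :=
 (Net.cons 12 (nat_lit 0x618)
 (Net.cons 6 (nat_lit 0x18032)
 (Net.cons 3 (nat_lit 0x4106)
 (Net.cons 1 (nat_lit 0x8248)
 (Net.cons 1 (nat_lit 0x92482)
 (Net.cons 1 (nat_lit 0x41040)
 (Net.cons 3 (nat_lit 0xc4104)
 (Net.cons 6 (nat_lit 0x1d006)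
 (Net.cons 12 (nat_lit 0x620)
 Net.nil)))))))))

noncomputable def on_17 : Net :=
 (Net.cons 12 (nat_lit 0x68a)
 (Net.cons 6 (nat_lit 0x18000)
 (Net.cons 3 (nat_lit 0x2)
 (Net.cons 1 (nat_lit 0x48)
 (Net.cons 1 (nat_lit 0x80080)
 (Net.cons 3 (nat_lit 0x85002)
 (Net.cons 6 (nat_lit 0x19018)
 (Net.cons 12 (nat_lit 0x28e)
 Net.nil))))))))

noncomputable def on_19 : Net :=
 (Net.cons 12 (nat_lit 0x710)
 (Net.cons 6 (nat_lit 0x2600c)
 (Net.cons 3 (nat_lit 0x2104)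
 (Net.cons 1 (nat_lit 0x41008)
 (Net.cons 1 (nat_lit 0x400090)
 (Net.cons 1 (nat_lit 0x200000)
 (Net.cons 3 (nat_lit 0x102140)
 (Net.cons 6 (nat_lit 0x3603c)
 (Net.cons 12 (nat_lit 0xf8)
 Net.nil)))))))))

noncomputable def on_21 : Net :=
 (Net.cons 12 (nat_lit 0x11c)
 (Net.cons 6 (nat_lit 0x8038)
 (Net.cons 3 (nat_lit 0x80106)
 (Net.cons 1 (nat_lit 0x208208)
 (Net.cons 1 (nat_lit 0x10492)
 (Net.cons 1 (nat_lit 0x8208)
 (Net.cons 3 (nat_lit 0x83046)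
 (Net.cons 6 (nat_lit 0x10024)
 (Net.cons 12 (nat_lit 0x1b4)
 Net.nil)))))))))

noncomputable def on_23 : Net :=
 (Net.cons 12 (nat_lit 0xf00)
 (Net.cons 6 (nat_lit 0x2c01c)
 (Net.cons 3 (nat_lit 0x4084)
 (Net.cons 1 (nat_lit 0x200040)
 (Net.cons 1 (nat_lit 0x10010)
 (Net.cons 1 (nat_lit 0x8)
 (Net.cons 3 (nat_lit 0x187004)
 (Net.cons 6 (nat_lit 0xd01c)
 (Net.cons 12 (nat_lit 0xf00)
 Net.nil)))))))))

noncomputable def on_25 : Net :=
 (Net.cons 12 (nat_lit 0x118)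
 (Net.cons 6 (nat_lit 0x1c036)
 (Net.cons 3 (nat_lit 0x4180)
 (Net.cons 1 (nat_lit 0x9000)
 (Net.cons 1 (nat_lit 0x92092)
 (Net.cons 1 (nat_lit 0x1048)
 (Net.cons 3 (nat_lit 0x4186)
 (Net.cons 6 (nat_lit 0xf036)
 (Net.cons 12 (nat_lit 0x478)
 Net.nil)))))))))

noncomputable def on_27 : Net :=
 (Net.cons 12 (nat_lit 0xf00)
 (Net.cons 6 (nat_lit 0x22030)
 (Net.cons 3 (nat_lit 0x80100)
 (Net.cons 1 (nat_lit 0x49040)
 (Net.cons 1 (nat_lit 0x492080)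
 (Net.cons 1 (nat_lit 0x248040)
 (Net.cons 3 (nat_lit 0x181180)
 (Net.cons 6 (nat_lit 0x1d030)
 (Net.cons 12 (nat_lit 0xf00)
 Net.nil)))))))))

noncomputable def on_28 : Net :=
 (Net.cons 12 (nat_lit 0x800)
 (Net.cons 6 (nat_lit 0x20020)
 (Net.cons 3 (nat_lit 0x104100)
 (Net.cons 1 (nat_lit 0x48040)
 (Net.cons 1 (nat_lit 0x492480)
 (Net.cons 1 (nat_lit 0x201200)
 (Net.cons 3 (nat_lit 0x104100)
 (Net.cons 6 (nat_lit 0x20020)
 (Net.cons 12 (nat_lit 0x800)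
 Net.nil)))))))))

noncomputable def on : List Net := [Net.nil,
 on_1,
 on_2,
 on_3,
 on_4,
 on_5,
 Net.rev on_5,
 Net.nil,
 Net.rev on_1,
 Net.rev on_2,
 Net.rev on_3,
 on_11,
 Net.rev on_11,
 on_13,
 Net.rev on_13,
 on_15,
 Net.rev on_15,
 on_17,
 Net.rev on_17,
 on_19,
 Net.rev on_19,
 on_21,
 Net.rev on_21,
 on_23,
 Net.rev on_23,
 on_25,
 Net.rev on_25,
 on_27,
 on_28,
 Net.rev on_28]

theorem on_ok : NetsOK 24 on := netsOK_of (by decide +kernel)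

noncomputable def opi : Net :=
 (Net.cons 12 (nat_lit 0x490)
 (Net.cons 6 (nat_lit 0x4024)
 (Net.cons 3 (nat_lit 0x100000)
 (Net.cons 1 (nat_lit 0x201241)
 (Net.cons 1 (nat_lit 0x412412)
 (Net.cons 1 (nat_lit 0x208201)
 (Net.cons 3 (nat_lit 0x144082)
 (Net.cons 6 (nat_lit 0xa008)
 (Net.cons 12 (nat_lit 0x3e4)
 Net.nil)))))))))

theorem opi_ok : opi.ok 24 := ok_of_netOK (by decide +kernel)

def oL : List ℕ := [1,2,3,4,5,6,8,9,10,11,12,13,14,15,16,17,18,19,20,21,22,23,24,25,26,27,28,29]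

noncomputable def oC : List Lev := [([11,12,13,14,15,16,17,18,19,20,21,22,23,24,25,26,27,28,29],[1,2,1,11,27,3],0,0,23),
 ([15,16,17,18,19,20,21,22,23,24,25,26,27,28,29],[11,13,11,15,17,19],1,1,22),
 ([19,20,21,22,23,24,25,26,27,28,29],[15,17,15,17,19,15],2,2,21),
 ([23,24,25,26,27,28,29],[19,21,19,27,19,21],3,3,20),
 ([28,29],[23,25,23,27,23,23],4,4,16),
 ([],[28,28],5,5,3)]

noncomputable def oD : List (ℕ × List ℕ) := [(8,[1,1,1,1,1,1,1,1,1,1,1,1,1,1,1,1,1,1,1,1,1,1]),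
 (9,[2,2,2,2,2,2,2,2,2,2]),
 (10,[3,3,3,3]),
 (11,[9,10,1,2]),
 (12,[9,8,3,2]),
 (13,[3,9,9]),
 (14,[2,2,10]),
 (15,[14,12,12]),
 (16,[11,11,13]),
 (17,[12,14,11,14,11,11]),
 (18,[12,12,13,12,13,11]),
 (19,[16,17,15,18,16,16]),
 (20,[15,15,17,16,18,15]),
 (21,[15,15,18,16,18]),
 (22,[17,15,17,16,16]),
 (23,[19,21,20]),
 (24,[19,22,20]),
 (25,[21,19,22,19]),
 (26,[20,21,20,22]),
 (27,[21,20,22,20,21]),
 (28,[23,25,27,26]),
 (29,[25,27,26,24]),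
 (4,[29,25,24,1]),
 (5,[25,29,19,29,17,22,11,27]),
 (6,[26,23,19,19,21,18,15,11,19])]

theorem o_le : cl (gp on) oL ≤ cl (gp on) [1,2,3] := by
  rw [← cl_eq_of_slpB (k := 5) (D := oD) (L := [1,2,3]) on_ok (by norm_num) (by decide +kernel)]
  exact cl_mono (sub_of_subB (by decide +kernel))

theorem o_m1 : gp on 1 ∈ (cl (gp nets) L).map (MulAut.conj opi.perm).toMonoidHom :=
  mem_conj_of_eqB (k := 5) (w := [75,77,78,71,77,68,79,65,78,1,67]) nets_ok (by norm_num) opi_ok (on_ok 1) (fun _ => mem_all) (by decide +kernel)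

theorem o_m2 : gp on 2 ∈ (cl (gp nets) L).map (MulAut.conj opi.perm).toMonoidHom :=
  mem_conj_of_eqB (k := 5) (w := [77,75,71,71,76,68,71,69,65,3]) nets_ok (by norm_num) opi_ok (on_ok 2) (fun _ => mem_all) (by decide +kernel)

theorem o_m3 : gp on 3 ∈ (cl (gp nets) L).map (MulAut.conj opi.perm).toMonoidHom :=
  mem_conj_of_eqB (k := 5) (w := [75,78,71,71,76,68,64,76,3,69]) nets_ok (by norm_num) opi_ok (on_ok 3) (fun _ => mem_all) (by decide +kernel)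

theorem o_conj : cl (gp on) oL ≤ (cl (gp nets) L).map (MulAut.conj opi.perm).toMonoidHom :=
  o_le.trans (cl_le.2 (by simp only [List.forall_mem_cons]; exact ⟨o_m1, o_m2, o_m3, by simp⟩))

theorem o_ch : Nat.beq (chainB on oC oL) 10200960 = true := by decide +kernel

theorem o_ex : Exact on oC oL := by
  have := nets_ok.finite L
  exact exact_of_beq ((card_le_of_conj o_conj).trans card.le) o_ch

noncomputable def tb : ℕ → ℕ → ℕ := tbx 24 (tbk 5 4 prs5 on 32)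

theorem tb_ok : TbA on tb := tbA_tbx on_ok (tbk_eq tr5 (by norm_num) (by norm_num) (by norm_num) on_ok)

noncomputable def par0 : ℕ := (nat_lit 0x854934b65a2820d941430124109708c200)

noncomputable def par1 : ℕ := (nat_lit 0x41650b75c3574196ce61b30b38d3d03c0)

noncomputable def par2 : ℕ := (nat_lit 0x183d755044f49245b5197504d159a580)

noncomputable def par3 : ℕ := (nat_lit 0x5145585167135545595d76d64d9600)

noncomputable def par4 : ℕ := (nat_lit 0x5db65a65d61b69a7595d8700)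

noncomputable def par5 : ℕ := (nat_lit 0x1d700)

noncomputable def oP : List (ℕ → ℕ) := [(fun p => look2 par0 6 256 (Nat.sub p 0)),
 (fun p => look2 par1 6 256 (Nat.sub p 1)),
 (fun p => look2 par2 6 256 (Nat.sub p 2)),
 (fun p => look2 par3 6 256 (Nat.sub p 3)),
 (fun p => look2 par4 6 256 (Nat.sub p 4)),
 (fun p => look2 par5 6 256 (Nat.sub p 5))]

noncomputable def cxM : ℕ := (nat_lit 0)

theorem cx_b : centB on tb oC oL 1 0 0 23 [0,1,2,3,4,13] [] [1] [1,1,1,1,1,1,1,1,1,1,1,1,1,1,1,1,1,1,1,1,1,1] cxM = true := by decide +kernel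

noncomputable def cxF (q : ℕ) : Bool := sift tb (fun e => witer tb [1] e q) [] oC oP oL [0,1,2,3,4,13] []

theorem cxA_0 : AllM cxM 256 cxF :=
  AllM.step (lo := 0) (m := 1) (AllM.zero _ _) (by decide +kernel)

theorem cx_c : ∀ c ∈ cl (gp on) oL, Commute c (gp on 1) → c ∈ cl (gp on) [1] := fun _ hc hz =>
  Exact.cent on_ok tb_ok o_ex cx_b cxA_0 (by norm_num) (by norm_num) hc hz

noncomputable def cyM : ℕ := (nat_lit 0x140)

theorem cy_b : centB on tb oC oL 4 0 0 23 [0,1,2,3,4,5] [] [4] [4,4,4,4,4,4,4,4,4,4] cyM = true := by decide +kernel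

noncomputable def cyF (q : ℕ) : Bool := sift tb (fun e => witer tb [4] e q) [] oC oP oL [0,1,2,3,4,5] []

theorem cyA_0 : AllM cyM 256 cyF :=
  AllM.step (lo := 0) (m := 1) (AllM.zero _ _) (by decide +kernel)

theorem cy_c : ∀ c ∈ cl (gp on) oL, Commute c (gp on 4) → c ∈ cl (gp on) [4] := fun _ hc hz =>
  Exact.cent on_ok tb_ok o_ex cy_b cyA_0 (by norm_num) (by norm_num) hc hz

noncomputable def parO : ℕ := (nat_lit 0x100104000004000100104104100)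

noncomputable def oO : ℕ := (nat_lit 0x2c4bf)

noncomputable def oR : List (List ℕ × ℕ) := [([1,3],3),
 ([1,2,3],7),
 ([1,2,3,2],6)]

theorem o_b : outB on tb (bases oC) oL 23 2 1 9 0 oR [4] oO = true := by decide +kernel

noncomputable def oF (q : ℕ) : Bool := walk tb (fun p => look2 parO 6 256 (Nat.sub p 0)) (msk [4]) 0 (fun ws => allL [1,5] (candB tb oR [(1,0)] 1 q ws)) 1000 q []

theorem oA_0 : AllM oO 256 oF :=
  AllM.step (lo := 0) (m := 1) (AllM.zero _ _) (by decide +kernel)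

theorem o_phi {Γ : Type*} [Group Γ] (e : Γ ≃* cl (gp nets) L) : ∃ φ : Γ →* Equiv.Perm ℕ, Function.Injective φ ∧ φ.range = cl (gp on) oL := by
  have := nets_ok.finite L
  exact relabel e _ o_conj (card.trans_le (lb_of_chainB on_ok o_ch))

theorem out_le {Γ : Type*} [Group Γ] (e : Γ ≃* cl (gp nets) L) : Finite (Out Γ) ∧ Nat.card (Out Γ) ≤ 1 := by
  obtain ⟨φ, h1, h2⟩ := o_phi e
  exact card_out_le on_ok tb_ok o_ex o_b cy_b cy_c (by norm_num) h1 h2 o_le (m := 443520) (J := 11) (by norm_num)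
    (((Nat.card_congr e.toEquiv).trans card).trans (by norm_num)) (by norm_num) (by norm_num) cx_c (by decide +kernel) (by norm_num) oA_0

theorem out_eq {Γ : Type*} [Group Γ] (e : Γ ≃* cl (gp nets) L) : Nat.card (Out Γ) = 1 := card_out_eq_one (out_le e)

end Cfsg.Lib.Comp.M23
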