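import Cfsg.Agent.Lib.Comp.Golay

set_option maxRecDepth 100000

namespace Cfsg.Lib.Comp.M23

universe u

noncomputable def nets_1 : Net :=
 (Net.cons 12 (nat_lit 0x258)
 (Net.cons 6 (nat_lit 0x18028)
 (Net.cons 3 (nat_lit 0x80100)
 (Net.cons 1 (nat_lit 0x8200)
 (Net.cons 1 (nat_lit 0x92492)
 (Net.cons 1 (nat_lit 0x41209)
 (Net.cons 3 (nat_lit 0x42146)
 (Net.cons 6 (nat_lit 0x8030)
 (Net.cons 12 (nat_lit 0x4fc)
 Net.nil)))))))))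

noncomputable def nets_2 : Net :=
 (Net.cons 12 (nat_lit 0x9a2)
 (Net.cons 6 (nat_lit 0x24038)
 (Net.cons 3 (nat_lit 0x4)
 (Net.cons 1 (nat_lit 0x241249)
 (Net.cons 1 (nat_lit 0x492090)
 (Net.cons 1 (nat_lit 0x1048)
 (Net.cons 3 (nat_lit 0x84107)
 (Net.cons 6 (nat_lit 0x3f02b)
 (Net.cons 12 (nat_lit 0xbb7)
 Net.nil)))))))))

noncomputable def nets_64 : Net :=
 (Net.cons 12 (nat_lit 0xa2a)
 (Net.cons 6 (nat_lit 0x38028)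
 (Net.cons 3 (nat_lit 0x2106)
 (Net.cons 1 (nat_lit 0x1008)
 (Net.cons 1 (nat_lit 0x490090)
 (Net.cons 1 (nat_lit 0x200040)
 (Net.cons 3 (nat_lit 0x1020c6)
 (Net.cons 6 (nat_lit 0x6038)
 (Net.cons 12 (nat_lit 0xac6)
 Net.nil)))))))))

noncomputable def nets_66 : Net :=
 (Net.cons 12 (nat_lit 0x47c)
 (Net.cons 6 (nat_lit 0x24016)
 (Net.cons 3 (nat_lit 0x4080)
 (Net.cons 1 (nat_lit 0x241008)
 (Net.cons 1 (nat_lit 0x490402)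
 (Net.cons 1 (nat_lit 0x200200)
 (Net.cons 3 (nat_lit 0x1451c4)
 (Net.cons 6 (nat_lit 0x2e006)
 (Net.cons 12 (nat_lit 0x22a)
 Net.nil)))))))))

noncomputable def nets_68 : Net :=
 (Net.cons 12 (nat_lit 0x196)
 (Net.cons 6 (nat_lit 0x18006)
 (Net.cons 3 (nat_lit 0x4106)
 (Net.cons 1 (nat_lit 0x8048)
 (Net.cons 1 (nat_lit 0x90482)
 (Net.cons 1 (nat_lit 0x40040)
 (Net.cons 3 (nat_lit 0x41004)
 (Net.cons 6 (nat_lit 0x8008)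
 (Net.cons 12 (nat_lit 0x7ce)
 Net.nil)))))))))

noncomputable def nets_70 : Net :=
 (Net.cons 12 (nat_lit 0x288)
 (Net.cons 6 (nat_lit 0xe03c)
 (Net.cons 3 (nat_lit 0x104004)
 (Net.cons 1 (nat_lit 0x240248)
 (Net.cons 1 (nat_lit 0x410010)
 (Net.cons 1 (nat_lit 0x200008)
 (Net.cons 3 (nat_lit 0x1051c4)
 (Net.cons 6 (nat_lit 0xe03c)
 (Net.cons 12 (nat_lit 0x288)
 Net.nil)))))))))

noncomputable def nets_71 : Net :=
 (Net.cons 12 (nat_lit 0x22a)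
 (Net.cons 6 (nat_lit 0x14000)
 (Net.cons 3 (nat_lit 0x106080)
 (Net.cons 1 (nat_lit 0x240048)
 (Net.cons 1 (nat_lit 0x402490)
 (Net.cons 1 (nat_lit 0x1000)
 (Net.cons 3 (nat_lit 0x183042)
 (Net.cons 6 (nat_lit 0x1d01a)
 (Net.cons 12 (nat_lit 0xc2)
 Net.nil)))))))))

noncomputable def nets_73 : Net :=
 (Net.cons 12 (nat_lit 0xaac)
 (Net.cons 6 (nat_lit 0x10020)
 (Net.cons 3 (nat_lit 0x86104)
 (Net.cons 1 (nat_lit 0x49200)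
 (Net.cons 1 (nat_lit 0x482490)
 (Net.cons 1 (nat_lit 0x201208)
 (Net.cons 3 (nat_lit 0x46044)
 (Net.cons 6 (nat_lit 0x3b03c)
 (Net.cons 12 (nat_lit 0xff4)
 Net.nil)))))))))

noncomputable def nets_75 : Net :=
 (Net.cons 12 (nat_lit 0x7f2)
 (Net.cons 6 (nat_lit 0x3e000)
 (Net.cons 3 (nat_lit 0x6100)
 (Net.cons 1 (nat_lit 0x9000)
 (Net.cons 1 (nat_lit 0x10080)
 (Net.cons 1 (nat_lit 0x8000)
 (Net.cons 3 (nat_lit 0x144002)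
 (Net.cons 6 (nat_lit 0x3e010)
 (Net.cons 12 (nat_lit 0x592)
 Net.nil)))))))))

noncomputable def nets_77 : Net :=
 (Net.cons 12 (nat_lit 0x498)
 (Net.cons 3 (nat_lit 0x80000)
 (Net.cons 1 (nat_lit 0x200040)
 (Net.cons 1 (nat_lit 0x80000)
 (Net.cons 3 (nat_lit 0x82100)
 (Net.cons 6 (nat_lit 0x1018)
 (Net.cons 12 (nat_lit 0x498)
 Net.nil)))))))

noncomputable def nets_78 : Net :=
 (Net.cons 12 (nat_lit 0x3d2)
 (Net.cons 6 (nat_lit 0x2)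
 (Net.cons 3 (nat_lit 0x102000)
 (Net.cons 1 (nat_lit 0x241000)
 (Net.cons 1 (nat_lit 0x400480)
 (Net.cons 1 (nat_lit 0x40)
 (Net.cons 3 (nat_lit 0x107000)
 (Net.cons 6 (nat_lit 0x18012)
 (Net.cons 12 (nat_lit 0x372)
 Net.nil)))))))))

noncomputable def nets : List Net := (apd [Net.nil,
 nets_1,
 nets_2,
 Net.rev nets_1,
 Net.rev nets_2,
 Net.nil,
 Net.nil,
 Net.nil,
 Net.nil,
 Net.nil,
 Net.nil,
 Net.nil,
 Net.nil,
 Net.nil,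
 Net.nil,
 Net.nil,
 Net.nil,
 Net.nil,
 Net.nil,
 Net.nil,
 Net.nil,
 Net.nil,
 Net.nil,
 Net.nil,
 Net.nil,
 Net.nil,
 Net.nil,
 Net.nil,
 Net.nil,
 Net.nil,
 Net.nil,
 Net.nil,
 Net.nil,
 Net.nil,
 Net.nil,
 Net.nil,
 Net.nil,
 Net.nil,
 Net.nil,
 Net.nil]
 [Net.nil,
 Net.nil,
 Net.nil,
 Net.nil,
 Net.nil,
 Net.nil,
 Net.nil,
 Net.nil,
 Net.nil,
 Net.nil,
 Net.nil,
 Net.nil,
 Net.nil,
 Net.nil,
 Net.nil,
 Net.nil,
 Net.nil,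
 Net.nil,
 Net.nil,
 Net.nil,
 Net.nil,
 Net.nil,
 Net.nil,
 Net.nil,
 nets_64,
 Net.rev nets_64,
 nets_66,
 Net.rev nets_66,
 nets_68,
 Net.rev nets_68,
 nets_70,
 nets_71,
 Net.rev nets_71,
 nets_73,
 Net.rev nets_73,
 nets_75,
 Net.rev nets_75,
 nets_77,
 nets_78,
 Net.rev nets_78])

theorem nets_ok : NetsOK 24 nets := netsOK_of (by decide +kernel)

def L : List ℕ := [1,2]

noncomputable def slp : List (ℕ × List ℕ) := [(3,[1,1,1,1,1,1,1,1,1,1,1,1,1,1,1,1,1,1,1,1,1,1]),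
 (4,[2,2,2,2,2,2,2,2,2,2,2,2,2,2,2,2,2,2,2,2,2,2]),
 (64,[2,3,4,1,4,1]),
 (65,[3,2,3,2,1,4]),
 (66,[1,1,1,2,2]),
 (67,[4,4,3,3,3]),
 (68,[65,66,66,65,66,64]),
 (69,[65,67,64,67,67,64]),
 (70,[64,67,67,67,65]),
 (71,[70,69,69]),
 (72,[68,68,70]),
 (73,[69,69,69,70,68,68,70,69]),
 (74,[68,70,69,69,70,68,68,68]),
 (75,[73,73,73,72]),
 (76,[71,74,74,74]),
 (77,[73,71,74,71,73,71]),
 (78,[73,72,72,74,71,71]),
 (79,[72,72,73,71,71,74])]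

theorem slp_ok : slpB 24 5 nets slp L = true := by decide +kernel

theorem mem_all {x : ℕ} (h : x ∈ L ++ slp.map (·.1)) : gp nets x ∈ cl (gp nets) L :=
  cl_eq_of_slpB nets_ok (by norm_num) slp_ok ▸ mem_cl h

-- chain [([64,65,66,67,68,69,70,71,72,73,74,75,76,77,78,79],[],0,0,23),([68,69,70,71,72,73,74,75,76,77,78,79],[],1,0,22),([71,72,73,74,75,76,77,78,79],[],2,0,21),([75,76,77,78,79],[],3,0,20),([75,76],[],4,0,16),([],[],5,0,3)]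

open Cfsg.Lib.Golay in
theorem perm : Nonempty (Spor.M23 ≃* cl (gp nets) L) := by
  rw [← gen_gM23]
  exact equiv_of_coding gc (fun g hg => (inH_gM23 g hg).1) nets_ok (by decide +kernel) (by decide +kernel)

theorem card : Nat.card (cl (gp nets) L) = 10200960 := by
  obtain ⟨e⟩ := perm
  rw [← Nat.card_congr e.toEquiv, Golay.card_M23]

end Cfsg.Lib.Comp.M23
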